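import Mathlib

/-!
Nilpotent endomorphisms with one-dimensional kernel (regular nilpotents): kernels of powers,
invariant subspaces, a cyclic vector, and the commutant.
-/

namespace CfsgLib.RegNilp

variable {F V : Type*} [Field F] [AddCommGroup V] [Module F V] [FiniteDimensional F V]

lemma finrank_ker_comp_le (f g : V →ₗ[F] V) :
    Module.finrank F (LinearMap.ker (g ∘ₗ f)) ≤
      Module.finrank F (LinearMap.ker g) + Module.finrank F (LinearMap.ker f) := by
  let r : LinearMap.ker (g ∘ₗ f) →ₗ[F] LinearMap.ker g :=
    LinearMap.codRestrict _ (f ∘ₗ (LinearMap.ker (g ∘ₗ f)).subtype) (fun v => v.2)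
  have h1 := LinearMap.finrank_range_add_finrank_ker r
  have h2 := Submodule.finrank_le (LinearMap.range r)
  have h3 : Module.finrank F (LinearMap.ker r) ≤ Module.finrank F (LinearMap.ker f) := by
    refine LinearMap.finrank_le_finrank_of_injective
      (f := LinearMap.codRestrict (LinearMap.ker f)
        ((LinearMap.ker (g ∘ₗ f)).subtype ∘ₗ (LinearMap.ker r).subtype) ?_) ?_
    · intro v
      have := v.2
      rw [LinearMap.mem_ker] at this ⊢
      exact congrArg Subtype.val this
    · intro a b h
      exact Subtype.ext (Subtype.ext (congrArg (fun x : LinearMap.ker f => (x : V)) h))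
  omega

lemma finrank_ker_pow_le {N : Module.End F V} (h1 : Module.finrank F (LinearMap.ker N) ≤ 1)
    (k : ℕ) : Module.finrank F (LinearMap.ker (N ^ k)) ≤ k := by
  induction k with
  | zero => simp [Module.End.one_eq_id]
  | succ k ih =>
    have := finrank_ker_comp_le (F := F) N (N ^ k)
    rw [pow_succ]
    rw [Module.End.mul_eq_comp]
    omega

lemma invariant_le_ker_pow {N : Module.End F V} (hn : IsNilpotent N) (W : Submodule F V)
    (hW : ∀ v ∈ W, N v ∈ W) : W ≤ LinearMap.ker (N ^ Module.finrank F W) := by
  intro v hv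
  obtain ⟨k, hk⟩ := hn
  have hr : IsNilpotent (N.restrict hW) := by
    refine ⟨k, ?_⟩
    rw [Module.End.pow_restrict k]
    ext x
    simp [hk]
  have h := LinearMap.aeval_self_charpoly (N.restrict hW)
  rw [hr.charpoly_eq_X_pow_finrank, map_pow, Polynomial.aeval_X, Module.End.pow_restrict] at h
  have := congrArg Subtype.val (LinearMap.congr_fun h ⟨v, hv⟩)
  simpa using this

lemma invariant_eq_ker_pow {N : Module.End F V} (hn : IsNilpotent N)
    (h1 : Module.finrank F (LinearMap.ker N) ≤ 1) (W : Submodule F V)
    (hW : ∀ v ∈ W, N v ∈ W) : W = LinearMap.ker (N ^ Module.finrank F W) :=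
  Submodule.eq_of_le_of_finrank_le (invariant_le_ker_pow hn W hW) (finrank_ker_pow_le h1 _)

lemma pow_finrank_eq_zero {N : Module.End F V} (hn : IsNilpotent N) :
    N ^ Module.finrank F V = 0 := by
  have h := LinearMap.aeval_self_charpoly N
  rwa [hn.charpoly_eq_X_pow_finrank, map_pow, Polynomial.aeval_X] at h

lemma ker_pow_eq_range {N : Module.End F V} (hn : IsNilpotent N)
    (h1 : Module.finrank F (LinearMap.ker N) ≤ 1) {a b : ℕ} (hab : a + b = Module.finrank F V) :
    LinearMap.ker (N ^ a) = LinearMap.range (N ^ b) := by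
  symm
  refine Submodule.eq_of_le_of_finrank_le ?_ ?_
  · rintro v ⟨w, rfl⟩
    rw [LinearMap.mem_ker, ← Module.End.mul_apply, ← pow_add, hab, pow_finrank_eq_zero hn,
      LinearMap.zero_apply]
  · have h2 := LinearMap.finrank_range_add_finrank_ker (N ^ b)
    have h3 := finrank_ker_pow_le h1 (k := b)
    have h4 := finrank_ker_pow_le h1 (k := a)
    omega

/-- A regular nilpotent endomorphism has a cyclic vector. -/
lemma exists_cyclic {N : Module.End F V} (hn : IsNilpotent N)
    (h1 : Module.finrank F (LinearMap.ker N) ≤ 1) :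
    ∃ (v : V) (b : Module.Basis (Fin (Module.finrank F V)) F V), ∀ i, b i = (N ^ (i : ℕ)) v := by
  by_cases h0 : Module.finrank F V = 0
  · refine ⟨0, Module.finBasis F V, fun i => ?_⟩
    exact absurd i.2 (by omega)
  obtain ⟨d, hd⟩ : ∃ d, Module.finrank F V = d + 1 := ⟨Module.finrank F V - 1, by omega⟩
  have hne : LinearMap.ker (N ^ d) ≠ ⊤ := by
    intro h
    have := finrank_ker_pow_le h1 (k := d)
    rw [h, finrank_top] at this
    omega
  obtain ⟨v, -, hv⟩ := SetLike.exists_of_lt (lt_top_iff_ne_top.2 hne)
  rw [LinearMap.mem_ker] at hv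
  have hz : ∀ j, d < j → (N ^ j) v = 0 := by
    intro j hj
    rw [show j = (j - (d + 1)) + (d + 1) by omega, pow_add, Module.End.mul_apply, ← hd,
      pow_finrank_eq_zero hn, LinearMap.zero_apply, map_zero]
  have hli : LinearIndependent F (fun i : Fin (Module.finrank F V) => (N ^ (i : ℕ)) v) := by
    rw [Fintype.linearIndependent_iff]
    classical
    intro c hc
    by_contra hcon
    push Not at hcon
    obtain ⟨i0, hi0⟩ := hcon
    obtain ⟨i, hi, hmin⟩ := Finset.exists_min_image
      (Finset.univ.filter fun i => c i ≠ 0) (fun i : Fin (Module.finrank F V) => (i : ℕ))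
      ⟨i0, by simp [hi0]⟩
    simp only [Finset.mem_filter, Finset.mem_univ, true_and] at hi hmin
    have := congrArg (N ^ (d - (i : ℕ))) hc
    rw [map_sum, map_zero, Finset.sum_eq_single i] at this
    · rw [map_smul, ← Module.End.mul_apply, ← pow_add,
        show d - (i : ℕ) + i = d by have := i.2; omega] at this
      exact hv ((smul_eq_zero.1 this).resolve_left hi)
    · intro j _ hj
      rw [map_smul, ← Module.End.mul_apply, ← pow_add]
      by_cases hcj : c j = 0
      · simp [hcj]
      · have := hmin j hcj
        have hne' : (i : ℕ) ≠ j := fun h => hj (Fin.ext h).symm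
        rw [hz _ (by have := i.2; omega), smul_zero]
    · simp
  exact ⟨v, basisOfLinearIndependentOfCardEqFinrank' _ hli (by simp), fun i => by simp⟩

end CfsgLib.RegNilp
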