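import Mathlib
import Cfsg.Agent.RegNilp.Basic

/-!
Regular nilpotent matrices: a cyclic basis, the commutant as polynomials in the matrix,
its units and their determinants.
-/

namespace CfsgLib.RegNilp

open Matrix

variable {F : Type*} [Field F] {ι : Type*} [Fintype ι] [DecidableEq ι] {n : ℕ}

/-- `M` is a regular nilpotent matrix of size `n`. -/
def IsReg (M : Matrix ι ι F) (n : ℕ) : Prop :=
  Fintype.card ι = n ∧ M ^ n = 0 ∧
    Module.finrank F (LinearMap.ker (Matrix.mulVecLin M)) ≤ 1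

lemma mulVecLin_pow' (M : Matrix ι ι F) (k : ℕ) :
    Matrix.mulVecLin (M ^ k) = (Matrix.mulVecLin M : Module.End F (ι → F)) ^ k := by
  induction k with
  | zero => simp [Module.End.one_eq_id]
  | succ k ih => rw [pow_succ, pow_succ, Matrix.mulVecLin_mul, ih]; rfl

lemma IsReg.of_rank {M : Matrix ι ι F} (hn : Fintype.card ι = n) (h0 : M ^ n = 0)
    (hr : M.rank = n - 1) : IsReg M n := by
  refine ⟨hn, h0, ?_⟩
  have h := LinearMap.finrank_range_add_finrank_ker (Matrix.mulVecLin M)
  rw [Matrix.rank] at hr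
  rw [hr, Module.finrank_fintype_fun_eq_card, hn] at h
  omega

lemma IsReg.isNilpotent {M : Matrix ι ι F} (h : IsReg M n) : IsNilpotent M := ⟨n, h.2.1⟩

lemma IsReg.exists_cyclic {M : Matrix ι ι F} (h : IsReg M n) :
    ∃ (v : ι → F) (b : Module.Basis (Fin n) F (ι → F)), ∀ i, b i = (M ^ (i : ℕ)) *ᵥ v := by
  have hd : Module.finrank F (ι → F) = n := by rw [Module.finrank_fintype_fun_eq_card, h.1]
  have hN : IsNilpotent (Matrix.mulVecLin M : Module.End F (ι → F)) :=
    ⟨n, by rw [← mulVecLin_pow', h.2.1, Matrix.mulVecLin_zero]⟩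
  obtain ⟨v, b, hb⟩ := CfsgLib.RegNilp.exists_cyclic hN h.2.2
  refine ⟨v, b.reindex (finCongr hd), fun i => ?_⟩
  rw [Module.Basis.reindex_apply, hb, ← mulVecLin_pow', Matrix.mulVecLin_apply]
  rfl

lemma IsReg.of_pow_ne {M : Matrix ι ι F} (hn : Fintype.card ι = n) (hnil : IsNilpotent M)
    (hne : ∀ k, k < n → M ^ k ≠ 0) : IsReg M n := by
  have h0 : M ^ n = 0 := by
    obtain ⟨k, hk⟩ := hnil
    have hN : IsNilpotent (Matrix.mulVecLin M : Module.End F (ι → F)) :=
      ⟨k, by rw [← mulVecLin_pow', hk, Matrix.mulVecLin_zero]⟩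
    have := pow_finrank_eq_zero hN
    rw [Module.finrank_fintype_fun_eq_card, hn, ← mulVecLin_pow'] at this
    exact Matrix.toLin'.injective (by rw [Matrix.toLin'_apply', this, map_zero])
  refine ⟨hn, h0, ?_⟩
  rcases Nat.lt_or_ge n 2 with h2 | h2
  · refine (Submodule.finrank_le _).trans ?_
    rw [Module.finrank_fintype_fun_eq_card, hn]; omega
  obtain ⟨v, hv⟩ : ∃ v, (M ^ (n - 1)) *ᵥ v ≠ 0 := by
    by_contra hc
    push Not at hc
    exact hne (n - 1) (by omega) (Matrix.ext_iff_mulVec.2 fun v => by rw [hc, Matrix.zero_mulVec])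
  have hli : LinearIndependent F (fun i : Fin (n - 1) => (M ^ ((i : ℕ) + 1)) *ᵥ v) := by
    rw [Fintype.linearIndependent_iff]
    classical
    intro c hc i
    by_contra hci
    obtain ⟨j, hj, hmin⟩ := Finset.exists_min_image
      (Finset.univ.filter fun i => c i ≠ 0) (fun i : Fin (n - 1) => (i : ℕ)) ⟨i, by simp [hci]⟩
    simp only [Finset.mem_filter, Finset.mem_univ, true_and] at hj hmin
    have := congrArg ((M ^ (n - 2 - (j : ℕ))) *ᵥ ·) hc
    simp only [Matrix.mulVec_sum, Matrix.mulVec_smul, Matrix.mulVec_zero, Matrix.mulVec_mulVec,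
      ← pow_add] at this
    rw [Finset.sum_eq_single j] at this
    · rw [show n - 2 - (j : ℕ) + (j + 1) = n - 1 by have := j.2; omega] at this
      exact hv ((smul_eq_zero.1 this).resolve_left hj)
    · intro k _ hk
      by_cases hck : c k = 0
      · simp [hck]
      · have hjk := hmin k hck
        have hne' : (k : ℕ) ≠ j := fun h => hk (Fin.ext h)
        rw [show n - 2 - (j : ℕ) + (k + 1) = n + (n - 2 - j + (k + 1) - n) by
          have := j.2; omega, pow_add, h0, Matrix.zero_mul, Matrix.zero_mulVec, smul_zero]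
    · simp
  have hle : n - 1 ≤ Module.finrank F (LinearMap.range (Matrix.mulVecLin M)) := by
    have h1 : LinearIndependent F (fun i : Fin (n - 1) =>
        (⟨(M ^ ((i : ℕ) + 1)) *ᵥ v, (M ^ (i : ℕ)) *ᵥ v, by
          rw [Matrix.mulVecLin_apply, Matrix.mulVec_mulVec, ← pow_succ']⟩ :
            LinearMap.range (Matrix.mulVecLin M))) :=
      LinearIndependent.of_comp (LinearMap.range (Matrix.mulVecLin M)).subtype hli
    simpa using h1.fintype_card_le_finrank
  have h := LinearMap.finrank_range_add_finrank_ker (Matrix.mulVecLin M)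
  rw [Module.finrank_fintype_fun_eq_card, hn] at h
  omega

lemma IsReg.rank_eq {M : Matrix ι ι F} (h : IsReg M n) : M.rank = n - 1 := by
  have h' := LinearMap.finrank_range_add_finrank_ker (Matrix.mulVecLin M)
  rw [Module.finrank_fintype_fun_eq_card, h.1] at h'
  rw [Matrix.rank]
  have hle := h.2.2
  rcases Nat.eq_zero_or_pos n with hn | hn
  · omega
  have : LinearMap.ker (Matrix.mulVecLin M) ≠ ⊥ := by
    intro hbot
    have hinj : Function.Injective (Matrix.mulVecLin M : Module.End F (ι → F)) :=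
      LinearMap.ker_eq_bot.1 hbot
    have hN : (Matrix.mulVecLin M : Module.End F (ι → F)) ^ n = 0 := by
      rw [← mulVecLin_pow', h.2.1, Matrix.mulVecLin_zero]
    have : Nonempty ι := Fintype.card_pos_iff.1 (by rw [h.1]; exact hn)
    obtain ⟨x, y, hxy⟩ := exists_pair_ne (ι → F)
    have hh := hinj.iterate n
    rw [← Module.End.coe_pow, hN] at hh
    exact hxy (hh rfl)
  have : Module.finrank F (LinearMap.ker (Matrix.mulVecLin M)) ≠ 0 := fun h0 =>
    this (Submodule.finrank_eq_zero.1 h0)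
  omega

/-- The polynomial in `M` with the given coefficients. -/
def comb (M : Matrix ι ι F) (c : Fin n → F) : Matrix ι ι F := ∑ i, c i • M ^ (i : ℕ)

lemma comb_commute (M : Matrix ι ι F) (c : Fin n → F) : comb M c * M = M * comb M c := by
  simp only [comb, Finset.sum_mul, Finset.mul_sum, smul_mul_assoc, mul_smul_comm, ← pow_succ,
    ← pow_succ']

lemma comb_mulVec {M : Matrix ι ι F} {v : ι → F} {b : Module.Basis (Fin n) F (ι → F)}
    (hb : ∀ i, b i = (M ^ (i : ℕ)) *ᵥ v) (c : Fin n → F) :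
    comb M c *ᵥ v = ∑ i, c i • b i := by
  simp only [comb, Matrix.sum_mulVec, Matrix.smul_mulVec, hb]

lemma IsReg.comb_injective {M : Matrix ι ι F} (h : IsReg M n) :
    Function.Injective (comb M : (Fin n → F) → Matrix ι ι F) := by
  obtain ⟨v, b, hb⟩ := h.exists_cyclic
  intro c c' hcc
  have := congrArg (· *ᵥ v) hcc
  simp only [comb_mulVec hb] at this
  ext i
  have h2 := congrArg (fun w => b.repr w i) this
  simp only [Module.Basis.repr_sum_self] at h2
  exact h2

lemma eq_of_commute {M A B : Matrix ι ι F} {v : ι → F} {b : Module.Basis (Fin n) F (ι → F)}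
    (hb : ∀ i, b i = (M ^ (i : ℕ)) *ᵥ v) (hA : A * M = M * A) (hB : B * M = M * B)
    (hv : A *ᵥ v = B *ᵥ v) : A = B := by
  apply Matrix.toLin'.injective
  refine b.ext fun i => ?_
  have hA' : Commute A (M ^ (i : ℕ)) := (show Commute A M from hA).pow_right _
  have hB' : Commute B (M ^ (i : ℕ)) := (show Commute B M from hB).pow_right _
  simp only [Matrix.toLin'_apply, hb]
  rw [Matrix.mulVec_mulVec, Matrix.mulVec_mulVec, hA'.eq, hB'.eq, ← Matrix.mulVec_mulVec,
    ← Matrix.mulVec_mulVec, hv]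

lemma IsReg.exists_comb {M : Matrix ι ι F} (h : IsReg M n) {A : Matrix ι ι F}
    (hA : A * M = M * A) : ∃ c : Fin n → F, A = comb M c := by
  obtain ⟨v, b, hb⟩ := h.exists_cyclic
  refine ⟨fun i => b.repr (A *ᵥ v) i, eq_of_commute hb hA (comb_commute _ _) ?_⟩
  rw [comb_mulVec hb]
  exact (b.sum_repr _).symm

lemma comb_sub_const_isNilpotent {M : Matrix ι ι F} (hM : IsNilpotent M) (hn : 0 < n)
    (c : Fin n → F) : IsNilpotent (comb M c - c ⟨0, hn⟩ • 1) := by
  classical
  let R := ∑ i ∈ Finset.univ.erase (⟨0, hn⟩ : Fin n), c i • M ^ ((i : ℕ) - 1)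
  have hR : Commute M R := Commute.sum_right _ _ _ fun i _ =>
    ((Commute.refl M).pow_right _).smul_right _
  have heq : comb M c - c ⟨0, hn⟩ • 1 = M * R := by
    rw [comb, ← Finset.add_sum_erase Finset.univ _ (Finset.mem_univ (⟨0, hn⟩ : Fin n))]
    simp only [pow_zero, add_sub_cancel_left, R, Finset.mul_sum, mul_smul_comm, ← pow_succ']
    refine Finset.sum_congr rfl fun i hi => ?_
    have : (i : ℕ) ≠ 0 := fun h => Finset.ne_of_mem_erase hi (Fin.ext h)
    rw [Nat.sub_add_cancel (Nat.pos_of_ne_zero this)]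
  rw [heq]
  exact hR.isNilpotent_mul_right hM

/-- `det (c • 1 + K) = c ^ n` for a nilpotent `K`. -/
lemma det_smul_one_add {K : Matrix ι ι F} (hK : IsNilpotent K) (c : F) :
    (c • (1 : Matrix ι ι F) + K).det = c ^ Fintype.card ι := by
  have h : (-K).charpoly = Polynomial.X ^ Fintype.card ι :=
    sub_eq_zero.1 (Matrix.isNilpotent_charpoly_sub_pow_of_isNilpotent hK.neg).eq_zero
  have h2 := Matrix.eval_charpoly (-K) c
  rw [h, Polynomial.eval_pow, Polynomial.eval_X, sub_neg_eq_add] at h2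
  rw [h2, Matrix.smul_one_eq_diagonal]
  rfl

lemma det_comb {M : Matrix ι ι F} (h : IsReg M n) (hn : 0 < n) (c : Fin n → F) :
    (comb M c).det = c ⟨0, hn⟩ ^ n := by
  rw [show comb M c = c ⟨0, hn⟩ • 1 + (comb M c - c ⟨0, hn⟩ • 1) by abel,
    det_smul_one_add (comb_sub_const_isNilpotent h.isNilpotent hn c), h.1]

lemma isUnit_comb_iff {M : Matrix ι ι F} (h : IsReg M n) (hn : 0 < n) (c : Fin n → F) :
    IsUnit (comb M c) ↔ c ⟨0, hn⟩ ≠ 0 := by
  rw [Matrix.isUnit_iff_isUnit_det, det_comb h hn, isUnit_iff_ne_zero]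
  exact pow_ne_zero_iff hn.ne'

/-- Number of units commuting with a regular nilpotent matrix. -/
lemma IsReg.card_units_commute [Fintype F] {M : Matrix ι ι F} (h : IsReg M n) (hn : 0 < n) :
    Nat.card {A : (Matrix ι ι F)ˣ // (A : Matrix ι ι F) * M = M * A} =
      (Fintype.card F - 1) * Fintype.card F ^ (n - 1) := by
  classical
  obtain ⟨k, rfl⟩ : ∃ k, n = k + 1 := ⟨n - 1, by omega⟩
  let e : {c : Fin (k + 1) → F // c 0 ≠ 0} →
      {A : (Matrix ι ι F)ˣ // (A : Matrix ι ι F) * M = M * A} := fun c =>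
    ⟨((isUnit_comb_iff h hn c.1).2 c.2).unit, comb_commute _ _⟩
  have he : Function.Bijective e := by
    refine ⟨fun c c' hcc => Subtype.ext (h.comb_injective ?_), fun A => ?_⟩
    · exact congrArg (fun x => ((x.1 : (Matrix ι ι F)ˣ) : Matrix ι ι F)) hcc
    · obtain ⟨c, hc⟩ := h.exists_comb A.2
      refine ⟨⟨c, (isUnit_comb_iff h hn c).1 (hc ▸ A.1.isUnit)⟩, Subtype.ext (Units.ext hc.symm)⟩
  let e' : {c : Fin (k + 1) → F // c 0 ≠ 0} ≃ Fˣ × (Fin k → F) :=
    { toFun := fun c => (Units.mk0 _ c.2, fun i => c.1 i.succ)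
      invFun := fun x => ⟨Fin.cons (x.1 : F) x.2, by simp⟩
      left_inv := fun c => Subtype.ext (funext fun i => by
        refine Fin.cases ?_ (fun j => ?_) i <;> simp)
      right_inv := fun x => by ext <;> simp }
  rw [← Nat.card_eq_of_bijective e he, Nat.card_congr e', Nat.card_prod, Nat.card_units,
    Nat.card_fun, Nat.card_eq_fintype_card, Nat.card_fin]
  simp

/-- Two regular nilpotent matrices of the same size are similar. -/
lemma IsReg.exists_conj {M M' : Matrix ι ι F} (h : IsReg M n) (h' : IsReg M' n) :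
    ∃ P : (Matrix ι ι F)ˣ, (P : Matrix ι ι F) * M = M' * P := by
  obtain ⟨v, b, hb⟩ := h.exists_cyclic
  obtain ⟨v', b', hb'⟩ := h'.exists_cyclic
  let e : (ι → F) ≃ₗ[F] (ι → F) := b.equiv b' (Equiv.refl _)
  have he : ∀ i, e (b i) = b' i := fun i => b.equiv_apply i b' (Equiv.refl _)
  have hpow : ∀ j : ℕ, e ((M ^ j) *ᵥ v) = (M' ^ j) *ᵥ v' := by
    intro j
    rcases Nat.lt_or_ge j n with hj | hj
    · rw [← hb ⟨j, hj⟩, he, hb']
    · rw [show j = n + (j - n) by omega, pow_add, pow_add, h.2.1, h'.2.1, Matrix.zero_mul,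
        Matrix.zero_mul, Matrix.zero_mulVec, Matrix.zero_mulVec, map_zero]
  refine ⟨⟨LinearMap.toMatrix' e.toLinearMap, LinearMap.toMatrix' e.symm.toLinearMap, ?_, ?_⟩, ?_⟩
  · rw [← LinearMap.toMatrix'_comp, LinearEquiv.comp_symm, LinearMap.toMatrix'_id]
  · rw [← LinearMap.toMatrix'_comp, LinearEquiv.symm_comp, LinearMap.toMatrix'_id]
  · show LinearMap.toMatrix' e.toLinearMap * M = M' * LinearMap.toMatrix' e.toLinearMap
    apply Matrix.toLin'.injective
    refine b.ext fun i => ?_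
    simp only [Matrix.toLin'_mul, LinearMap.comp_apply, Matrix.toLin'_toMatrix', LinearEquiv.coe_coe,
      Matrix.toLin'_apply, hb, Matrix.mulVec_mulVec, ← pow_succ', hpow]

end CfsgLib.RegNilp
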