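import Mathlib
import Cfsg.Agent.RegNilp.Matrix

/-!
Regular unipotent elements of the symplectic group in odd characteristic: the commutant with the
symplectic adjoint, its anti-fixed part, the centraliser, and the norm criterion for conjugacy.
-/

namespace CfsgLib.RegNilp

open Matrix

section Adj

variable {R : Type*} [CommRing R] {l : Type*} [Fintype l] [DecidableEq l]

/-- The symplectic adjoint. -/
def adj (A : Matrix (l ⊕ l) (l ⊕ l) R) : Matrix (l ⊕ l) (l ⊕ l) R :=
  -(Matrix.J l R * Aᵀ * Matrix.J l R)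

lemma J_mul_J_cancel (A : Matrix (l ⊕ l) (l ⊕ l) R) :
    Matrix.J l R * (Matrix.J l R * A) = -A := by
  rw [← mul_assoc, Matrix.J_squared, neg_one_mul]

lemma adj_mul (A B : Matrix (l ⊕ l) (l ⊕ l) R) : adj (A * B) = adj B * adj A := by
  simp only [adj, transpose_mul, neg_mul, mul_assoc, J_mul_J_cancel, mul_neg, neg_neg]

lemma adj_adj (A : Matrix (l ⊕ l) (l ⊕ l) R) : adj (adj A) = A := by
  simp only [adj, transpose_mul, transpose_neg, transpose_transpose, Matrix.J_transpose,
    mul_assoc, mul_neg, neg_mul, neg_neg, J_mul_J_cancel, Matrix.J_squared, mul_one]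

@[simp] lemma adj_one : adj (1 : Matrix (l ⊕ l) (l ⊕ l) R) = 1 := by
  simp [adj, Matrix.J_squared]

@[simp] lemma adj_zero : adj (0 : Matrix (l ⊕ l) (l ⊕ l) R) = 0 := by simp [adj]

lemma adj_add (A B : Matrix (l ⊕ l) (l ⊕ l) R) : adj (A + B) = adj A + adj B := by
  simp only [adj, transpose_add, mul_add, add_mul, neg_add]

lemma adj_neg (A : Matrix (l ⊕ l) (l ⊕ l) R) : adj (-A) = -adj A := by
  simp only [adj, transpose_neg, mul_neg, neg_mul]

lemma adj_sub (A B : Matrix (l ⊕ l) (l ⊕ l) R) : adj (A - B) = adj A - adj B := by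
  rw [sub_eq_add_neg, adj_add, adj_neg, ← sub_eq_add_neg]

lemma adj_smul (c : R) (A : Matrix (l ⊕ l) (l ⊕ l) R) : adj (c • A) = c • adj A := by
  simp only [adj, transpose_smul, mul_smul_comm, smul_mul_assoc, smul_neg]

lemma adj_pow (A : Matrix (l ⊕ l) (l ⊕ l) R) (k : ℕ) : adj (A ^ k) = adj A ^ k := by
  induction k with
  | zero => simp
  | succ k ih => rw [pow_succ, adj_mul, ih, pow_succ']

lemma mem_symplectic_iff_adj {A : Matrix (l ⊕ l) (l ⊕ l) R} :
    A ∈ Matrix.symplecticGroup l R ↔ adj A * A = 1 := by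
  rw [SymplecticGroup.mem_iff', adj]
  constructor
  · intro h
    simp only [neg_mul, mul_assoc] at h ⊢
    rw [h, Matrix.J_squared, neg_neg]
  · intro h
    have h2 := congrArg (Matrix.J l R * ·) h
    simpa only [neg_mul, mul_neg, mul_assoc, J_mul_J_cancel, neg_neg, mul_one] using h2

end Adj

variable {F : Type*} [Field F] {m : ℕ}

/-- Square matrices of size `2 m` in block form. -/
abbrev SpMat (F : Type*) (m : ℕ) := Matrix (Fin m ⊕ Fin m) (Fin m ⊕ Fin m) F

/-- A regular unipotent symplectic matrix. -/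
def IsRegU (u : (SpMat F m)) : Prop := adj u * u = 1 ∧ IsReg (u - 1) (2 * m)

/-- The commutant. -/
def Com (u A : (SpMat F m)) : Prop := A * u = u * A

variable {u : (SpMat F m)}

lemma IsRegU.mul_adj (h : IsRegU u) : u * adj u = 1 := mul_eq_one_comm.1 h.1

lemma com_iff {A : (SpMat F m)} : Com u A ↔ A * (u - 1) = (u - 1) * A := by
  rw [Com, mul_sub, sub_mul, mul_one, one_mul, sub_left_inj]

lemma Com.adj (h : IsRegU u) {A : (SpMat F m)} (hA : Com u A) : Com u (adj A) := by
  have h1 : RegNilp.adj u * RegNilp.adj A = RegNilp.adj A * RegNilp.adj u := by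
    rw [← adj_mul, ← adj_mul, hA]
  have h2 := congrArg (fun X => u * X * u) h1
  simp only [← mul_assoc, h.mul_adj, one_mul] at h2
  rw [mul_assoc (u * RegNilp.adj A), h.1, mul_one] at h2
  exact h2

lemma Com.mul {A B : (SpMat F m)} (hA : Com u A) (hB : Com u B) : Com u (A * B) :=
  Commute.mul_left (show Commute A u from hA) (show Commute B u from hB)

lemma Com.add {A B : (SpMat F m)} (hA : Com u A) (hB : Com u B) : Com u (A + B) :=
  Commute.add_left (show Commute A u from hA) (show Commute B u from hB)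

lemma Com.sub {A B : (SpMat F m)} (hA : Com u A) (hB : Com u B) : Com u (A - B) :=
  Commute.sub_left (show Commute A u from hA) (show Commute B u from hB)

lemma Com.neg {A : (SpMat F m)} (hA : Com u A) : Com u (-A) :=
  Commute.neg_left (show Commute A u from hA)

lemma Com.smul {A : (SpMat F m)} (hA : Com u A) (c : F) : Com u (c • A) :=
  Commute.smul_left (show Commute A u from hA) c

lemma Com.one : Com u (1 : (SpMat F m)) := Commute.one_left u

lemma Com.self : Com u u := rfl

lemma Com.inv {A : (SpMat F m)} (hA : Com u A) (hu : IsUnit A) : Com u A⁻¹ := by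
  have hd := (Matrix.isUnit_iff_isUnit_det A).1 hu
  have := congrArg (fun X => A⁻¹ * X * A⁻¹) hA
  simp only [← mul_assoc, Matrix.nonsing_inv_mul A hd, one_mul] at this
  rw [mul_assoc (A⁻¹ * u), Matrix.mul_nonsing_inv A hd, mul_one] at this
  exact this.symm

lemma Com.comm (h : IsRegU u) {A B : (SpMat F m)} (hA : Com u A) (hB : Com u B) : Commute A B := by
  obtain ⟨c, rfl⟩ := h.2.exists_comb (com_iff.1 hA)
  exact Commute.sum_left _ _ _ fun i _ =>
    (((show Commute B (u - 1) from com_iff.1 hB).symm).pow_left _).smul_left _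

variable (hm : 0 < m)

include hm in
lemma exists_const (h : IsRegU u) {A : (SpMat F m)} (hA : Com u A) :
    ∃ c : F, IsNilpotent (A - c • 1) := by
  obtain ⟨c, rfl⟩ := h.2.exists_comb (com_iff.1 hA)
  exact ⟨_, comb_sub_const_isNilpotent h.2.isNilpotent (by omega) c⟩

include hm in
lemma const_unique (h : IsRegU u) {A : (SpMat F m)} (hA : Com u A) {c d : F}
    (hc : IsNilpotent (A - c • 1)) (hd : IsNilpotent (A - d • 1)) : c = d := by
  have hcc : Commute (A - d • 1) (A - c • 1) :=
    Com.comm h (hA.sub (Com.one.smul d)) (hA.sub (Com.one.smul c))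
  have h2 := hcc.isNilpotent_sub hd hc
  rw [sub_sub_sub_cancel_left, ← sub_smul] at h2
  obtain ⟨k, hk⟩ := h2
  rw [smul_pow, one_pow] at hk
  by_contra hne
  haveI : Nonempty (Fin m ⊕ Fin m) := ⟨Sum.inl ⟨0, hm⟩⟩
  exact pow_ne_zero k (sub_ne_zero.2 hne)
    ((smul_eq_zero.1 hk).resolve_right one_ne_zero)

lemma isUnit_of_const {A : (SpMat F m)} {c : F} (hc : IsNilpotent (A - c • 1)) (hc0 : c ≠ 0) :
    IsUnit A := by
  rw [Matrix.isUnit_iff_isUnit_det, show A = c • 1 + (A - c • 1) by abel,
    det_smul_one_add hc, isUnit_iff_ne_zero]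
  exact pow_ne_zero _ hc0

include hm in
lemma const_ne_zero {A : (SpMat F m)} {c : F} (hc : IsNilpotent (A - c • 1)) (hu : IsUnit A) : c ≠ 0 := by
  rintro rfl
  rw [Matrix.isUnit_iff_isUnit_det, show A = (0 : F) • 1 + (A - (0 : F) • 1) by abel,
    det_smul_one_add hc, isUnit_iff_ne_zero] at hu
  exact hu (zero_pow (by simp; omega))

lemma const_adj {A : (SpMat F m)} {c : F} (hc : IsNilpotent (A - c • 1)) :
    IsNilpotent (adj A - c • 1) := by
  obtain ⟨k, hk⟩ := hc
  refine ⟨k, ?_⟩
  rw [show adj A - c • 1 = adj (A - c • 1) by rw [adj_sub, adj_smul, adj_one], ← adj_pow, hk,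
    adj_zero]

lemma const_mul (h : IsRegU u) {A B : (SpMat F m)} {c d : F} (hA : Com u A) (hB : Com u B)
    (hc : IsNilpotent (A - c • 1)) (hd : IsNilpotent (B - d • 1)) :
    IsNilpotent (A * B - (c * d) • 1) := by
  have heq : A * B - (c * d) • 1 = (A - c • 1) * B + c • (B - d • 1) := by
    rw [sub_mul, smul_mul_assoc, one_mul, smul_sub, smul_smul]
    abel
  rw [heq]
  have h1 : Com u (A - c • 1) := hA.sub (Com.one.smul c)
  have h2 : Com u (B - d • 1) := hB.sub (Com.one.smul d)
  exact (Com.comm h (h1.mul hB) (h2.smul c)).isNilpotent_add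
    ((Com.comm h h1 hB).isNilpotent_mul_right hc) (hd.smul c)

lemma const_one_add {A : (SpMat F m)} (hA : IsNilpotent A) : IsNilpotent ((1 + A) - (1 : F) • 1) := by
  rwa [one_smul, add_sub_cancel_left]

variable (u) in
/-- Elements of the commutant fixed by the adjoint. -/
def fixSub (s : F) : Submodule F (SpMat F m) where
  carrier := {A | Com u A ∧ adj A = s • A}
  add_mem' {A B} hA hB := ⟨hA.1.add hB.1, by rw [adj_add, hA.2, hB.2, smul_add]⟩
  zero_mem' := ⟨by simp [Com], by simp⟩
  smul_mem' c A hA := ⟨hA.1.smul c, by rw [adj_smul, hA.2, smul_comm]⟩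

include hm in
lemma anti_nilpotent (h : IsRegU u) (h2 : (2 : F) ≠ 0) {x : (SpMat F m)} (hx : x ∈ fixSub u (-1)) :
    IsNilpotent x := by
  obtain ⟨c, hc⟩ := exists_const hm h hx.1
  have h1 := const_adj hc
  rw [hx.2, neg_one_smul] at h1
  have h3 : IsNilpotent (x - (-c) • 1) := by
    have := h1.neg
    rwa [neg_sub, sub_neg_eq_add, add_comm, ← sub_neg_eq_add, ← neg_smul] at this
  have : (2 : F) * c = 0 := by
    have := const_unique hm h hx.1 hc h3
    linear_combination this
  rwa [(mul_eq_zero.1 this).resolve_left h2, zero_smul, sub_zero] at hc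

include hm in
lemma finrank_fixSub (h : IsRegU u) (h2 : (2 : F) ≠ 0) :
    Module.finrank F (fixSub u (-1)) = m ∧ Module.finrank F (fixSub u 1) = m := by
  let M : (SpMat F m) := u - 1
  have hMc : Com u M := Com.self.sub Com.one
  have hUc : Com u (adj u) := Com.self.adj h
  -- the commutant
  let cl : (Fin (2 * m) → F) →ₗ[F] (SpMat F m) :=
    ∑ i, (LinearMap.proj (R := F) (φ := fun _ : Fin (2 * m) => F) i).smulRight (M ^ (i : ℕ))
  have hcl : ∀ c, cl c = comb M c := fun c => by
    simp [cl, comb]
  have hrange : ∀ A : (SpMat F m), Com u A ↔ A ∈ LinearMap.range cl := fun A => by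
    constructor
    · intro hA
      obtain ⟨c, rfl⟩ := h.2.exists_comb (com_iff.1 hA)
      exact ⟨c, hcl c⟩
    · rintro ⟨c, rfl⟩
      rw [hcl]
      exact com_iff.2 (comb_commute M c)
  have hdim : Module.finrank F (LinearMap.range cl) = 2 * m := by
    rw [LinearMap.finrank_range_of_inj fun a b hab => h.2.comb_injective (by rwa [hcl, hcl] at hab),
      Module.finrank_fin_fun]
  have hsup : fixSub u (-1) ⊔ fixSub u 1 = LinearMap.range cl := by
    refine le_antisymm (sup_le (fun A hA => (hrange A).1 hA.1) fun A hA => (hrange A).1 hA.1) ?_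
    intro A hA
    have hA' := (hrange A).2 hA
    rw [show A = (2 : F)⁻¹ • (A - adj A) + (2 : F)⁻¹ • (A + adj A) by
      rw [← smul_add, show A - adj A + (A + adj A) = (2 : F) • A by rw [two_smul]; abel,
        smul_smul, inv_mul_cancel₀ h2, one_smul]]
    refine Submodule.add_mem_sup ⟨(hA'.sub (hA'.adj h)).smul _, ?_⟩
      ⟨(hA'.add (hA'.adj h)).smul _, ?_⟩
    · rw [adj_smul, adj_sub, adj_adj, smul_smul, neg_one_mul, neg_smul, ← smul_neg, neg_sub]
    · rw [adj_smul, adj_add, adj_adj, one_smul, add_comm]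
  have hinf : fixSub u (-1) ⊓ fixSub u 1 = ⊥ := by
    rw [eq_bot_iff]
    rintro A ⟨h1, h1'⟩
    rw [Submodule.mem_bot]
    have := h1.2.symm.trans h1'.2
    rw [neg_one_smul, one_smul, neg_eq_iff_add_eq_zero, ← two_smul F] at this
    exact (smul_eq_zero.1 this).resolve_left h2
  have hsum := Submodule.finrank_sup_add_finrank_inf_eq (fixSub u (-1)) (fixSub u 1)
  rw [hsup, hinf, hdim, finrank_bot] at hsum
  -- multiplication by w
  have hadjM : adj M = -(M * adj u) := by
    rw [adj_sub, adj_one, sub_mul, h.mul_adj, one_mul, neg_sub]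
  have hw : ∀ x : (SpMat F m), Com u x → (u - adj u) * x = 0 → M * x = 0 := by
    intro x hx hx0
    have hU : IsUnit (1 + adj u) := by
      refine isUnit_of_const (c := 2) ?_ h2
      have : IsNilpotent (u - (1 : F) • 1) := by rw [one_smul]; exact h.2.isNilpotent
      have h' := const_adj this
      rwa [show (1 : (SpMat F m)) + adj u - (2 : F) • 1 = adj u - (1 : F) • 1 by
        rw [two_smul, one_smul]; abel]
    refine hU.mul_right_eq_zero.1 ?_
    rw [← mul_assoc, show (1 + adj u) * M = u - adj u by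
      rw [add_mul, one_mul, mul_sub, h.1, mul_one]; simp [M]]
    exact hx0
  have hker : ∀ x : (SpMat F m), Com u x → M * x = 0 → x ∈ F ∙ M ^ (2 * m - 1) := by
    intro x hx hx0
    obtain ⟨c, rfl⟩ := h.2.exists_comb (com_iff.1 hx)
    have : ∀ i : Fin (2 * m), (i : ℕ) + 1 < 2 * m → c i = 0 := by
      intro i hi
      let c' : Fin (2 * m) → F := fun j => if hj : 0 < (j : ℕ) then c ⟨j - 1, by omega⟩ else 0
      have hc' : comb M c' = M * comb M c := by
        obtain ⟨k, hk⟩ : ∃ k, 2 * m = k + 1 := ⟨2 * m - 1, by omega⟩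
        simp only [c', comb, Finset.mul_sum, mul_smul_comm, ← pow_succ']
        rw [← (finCongr hk.symm).sum_comp, ← (finCongr hk.symm).sum_comp, Fin.sum_univ_succ,
          Fin.sum_univ_castSucc]
        simp only [finCongr_apply, Fin.val_cast, Fin.val_zero, lt_self_iff_false, dif_neg,
          not_false_eq_true, zero_smul, zero_add, Fin.val_succ, Fin.val_castSucc, Fin.val_last]
        have h0 : M ^ (k + 1) = 0 := by rw [← hk]; exact h.2.2.1
        rw [h0, smul_zero, add_zero]
        refine Finset.sum_congr rfl fun j _ => ?_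
        rw [dif_pos (Nat.succ_pos _)]
        congr 1
      rw [hx0] at hc'
      have h0 : comb M c' = comb M (0 : Fin (2 * m) → F) := by
        rw [hc']; simp [comb]
      have := congrFun (h.2.comb_injective h0) ⟨i + 1, hi⟩
      simpa [c'] using this
    have hlast : comb M c = c ⟨2 * m - 1, by omega⟩ • M ^ (2 * m - 1) := by
      rw [comb, Finset.sum_eq_single (⟨2 * m - 1, by omega⟩ : Fin (2 * m))]
      · intro j _ hj
        rw [this j (by
          have : (j : ℕ) ≠ 2 * m - 1 := fun h => hj (Fin.ext h)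
          omega), zero_smul]
      · simp
    rw [hlast]
    exact Submodule.smul_mem _ _ (Submodule.mem_span_singleton_self _)
  have hML : adj (M ^ (2 * m - 1)) = (-1 : F) • M ^ (2 * m - 1) := by
    have hu1 : M ^ (2 * m - 1) * adj u = M ^ (2 * m - 1) := by
      have h0 : M ^ (2 * m - 1) * M = 0 := by
        rw [← pow_succ, show 2 * m - 1 + 1 = 2 * m by omega]
        exact h.2.2.1
      have : M ^ (2 * m - 1) * adj M = 0 := by
        rw [hadjM, mul_neg, ← mul_assoc, h0, zero_mul, neg_zero]
      rwa [adj_sub, adj_one, mul_sub, mul_one, sub_eq_zero] at this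
    have hc : Commute M (adj u) := Com.comm h hMc hUc
    have hu' : ∀ k, M ^ (2 * m - 1) * adj u ^ k = M ^ (2 * m - 1) := by
      intro k
      induction k with
      | zero => simp
      | succ k ih => rw [pow_succ', ← mul_assoc, hu1, ih]
    rw [adj_pow, hadjM, (show Odd (2 * m - 1) from ⟨m - 1, by omega⟩).neg_pow, hc.mul_pow, hu',
      neg_one_smul]
  have hwc : Com u (u - adj u) := Com.self.sub hUc
  have hwadj : adj (u - adj u) = -(u - adj u) := by rw [adj_sub, adj_adj, neg_sub]
  have hmaps : ∀ (s : F) (x : (SpMat F m)), x ∈ fixSub u s → (u - adj u) * x ∈ fixSub u (-s) := by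
    intro s x hx
    refine ⟨hwc.mul hx.1, ?_⟩
    rw [adj_mul, hx.2, hwadj, smul_mul_assoc, mul_neg, neg_smul, ← smul_neg,
      (Com.comm h hwc hx.1).eq]
  let f1 : fixSub u (1 : F) →ₗ[F] fixSub u (-1 : F) :=
    ((LinearMap.mulLeft F (u - adj u)).comp (fixSub u (1 : F)).subtype).codRestrict _
      fun x => hmaps 1 x x.2
  let f2 : fixSub u (-1 : F) →ₗ[F] fixSub u (1 : F) :=
    ((LinearMap.mulLeft F (u - adj u)).comp (fixSub u (-1 : F)).subtype).codRestrict _
      fun x => by simpa using hmaps (-1) x x.2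
  have hf1 : Function.Injective f1 := by
    rw [← LinearMap.ker_eq_bot, eq_bot_iff]
    rintro ⟨x, hx⟩ hx0
    rw [LinearMap.mem_ker] at hx0
    obtain ⟨c, rfl⟩ := Submodule.mem_span_singleton.1
      (hker x hx.1 (hw x hx.1 (congrArg Subtype.val hx0)))
    rw [Submodule.mem_bot]
    apply Subtype.ext
    have := hx.2
    rw [adj_smul, hML, one_smul, smul_smul, mul_neg_one, neg_smul, neg_eq_iff_add_eq_zero,
      ← two_smul F, smul_smul] at this
    rcases smul_eq_zero.1 this with h' | h'
    · show c • _ = 0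
      rw [(mul_eq_zero.1 h').resolve_left h2, zero_smul]
    · show c • _ = 0
      rw [h', smul_zero]
  have hk2 : Module.finrank F (LinearMap.ker f2) ≤ 1 := by
    have hle : (LinearMap.ker f2).map (fixSub u (-1 : F)).subtype ≤ F ∙ M ^ (2 * m - 1) := by
      rintro _ ⟨⟨x, hx⟩, hx0, rfl⟩
      exact hker x hx.1 (hw x hx.1 (congrArg Subtype.val (LinearMap.mem_ker.1 hx0)))
    have h1 := (Submodule.finrank_map_subtype_eq _ (LinearMap.ker f2)).symm.trans_le
      (Submodule.finrank_mono hle)
    exact h1.trans ((finrank_span_le_card _).trans (by simp))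
  have e1 := LinearMap.finrank_le_finrank_of_injective hf1
  have e2 := LinearMap.finrank_range_add_finrank_ker f2
  have e3 := Submodule.finrank_le (LinearMap.range f2)
  omega

include hm in
lemma card_unitary [Fintype F] (h : IsRegU u) (h2 : (2 : F) ≠ 0) :
    Nat.card {A : (SpMat F m) // Com u A ∧ adj A * A = 1} = 2 * Fintype.card F ^ m := by
  classical
  have hne : (1 : F) ≠ -1 := fun he => h2 (by linear_combination he)
  have hinv : ∀ x : fixSub u (-1 : F), IsUnit (1 + (x : (SpMat F m))) := fun x =>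
    IsNilpotent.isUnit_one_add (anti_nilpotent hm h h2 x.2)
  let sgn : Bool → F := fun b => if b then 1 else -1
  let cay : fixSub u (-1 : F) → (SpMat F m) := fun x => (1 - (x : (SpMat F m))) * (1 + (x : (SpMat F m)))⁻¹
  have hcay : ∀ x, cay x * (1 + (x : (SpMat F m))) = 1 - (x : (SpMat F m)) := fun x => by
    rw [mul_assoc, Matrix.nonsing_inv_mul _ ((Matrix.isUnit_iff_isUnit_det _).1 (hinv x)), mul_one]
  have hcC : ∀ x, Com u (cay x) := fun x =>
    (Com.one.sub x.2.1).mul ((Com.one.add x.2.1).inv (hinv x))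
  have hcU : ∀ x, adj (cay x) * cay x = 1 := by
    intro x
    have hd := (Matrix.isUnit_iff_isUnit_det _).1 (hinv x)
    have hI : adj ((1 + (x : (SpMat F m)))⁻¹) * (1 - (x : (SpMat F m))) = 1 := by
      have := congrArg adj (Matrix.mul_nonsing_inv _ hd)
      rwa [adj_mul, adj_add, adj_one, x.2.2, neg_one_smul, ← sub_eq_add_neg] at this
    calc adj (cay x) * cay x
        = adj ((1 + (x : (SpMat F m)))⁻¹) * ((1 + (x : (SpMat F m))) * (1 - (x : (SpMat F m)))) * (1 + (x : (SpMat F m)))⁻¹ := by
          simp only [cay, adj_mul, adj_sub, adj_one, x.2.2, neg_one_smul, sub_neg_eq_add,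
            mul_assoc]
      _ = adj ((1 + (x : (SpMat F m)))⁻¹) * ((1 - (x : (SpMat F m))) * (1 + (x : (SpMat F m)))) * (1 + (x : (SpMat F m)))⁻¹ := by
          rw [(Com.comm h (Com.one.add x.2.1) (Com.one.sub x.2.1)).eq]
      _ = 1 := by
          rw [← mul_assoc _ (1 - (x : (SpMat F m))), hI, one_mul, Matrix.mul_nonsing_inv _ hd]
  have hcc : ∀ x, IsNilpotent (cay x - (1 : F) • 1) := by
    intro x
    have hn := anti_nilpotent hm h h2 x.2
    have hd := (Matrix.isUnit_iff_isUnit_det _).1 (hinv x)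
    have heq : cay x - (1 : F) • 1 = ((-2 : F) • (x : (SpMat F m))) * (1 + (x : (SpMat F m)))⁻¹ := by
      rw [one_smul, show (-2 : F) • (x : (SpMat F m)) = (1 - (x : (SpMat F m))) - (1 + (x : (SpMat F m))) by
        rw [neg_smul, two_smul]; abel, sub_mul, Matrix.mul_nonsing_inv _ hd]
    rw [heq]
    exact (Com.comm h (x.2.1.smul _) ((Com.one.add x.2.1).inv (hinv x))).isNilpotent_mul_right
      (hn.smul _)
  let e : Bool × fixSub u (-1 : F) → {A : (SpMat F m) // Com u A ∧ adj A * A = 1} := fun p =>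
    ⟨sgn p.1 • cay p.2, (hcC p.2).smul _, by
      rw [adj_smul, smul_mul_assoc, mul_smul_comm, hcU, smul_smul]
      cases p.1 <;> simp [sgn]⟩
  have hconst : ∀ p, IsNilpotent ((e p).1 - sgn p.1 • 1) := fun p => by
    show IsNilpotent (sgn p.1 • cay p.2 - sgn p.1 • 1)
    rw [← smul_sub]
    refine IsNilpotent.smul ?_ _
    simpa using hcc p.2
  have hbij : Function.Bijective e := by
    constructor
    · rintro ⟨a, x⟩ ⟨b, y⟩ hxy
      have h1 := hconst (a, x)
      rw [hxy] at h1
      have hab : sgn a = sgn b := const_unique hm h (e (b, y)).2.1 h1 (hconst (b, y))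
      obtain rfl : a = b := by
        cases a <;> cases b <;> simp [sgn] at hab ⊢ <;>
          first | exact hne hab | exact hne hab.symm
      have hc : cay x = cay y := by
        have := congrArg Subtype.val hxy
        simp only [e] at this
        exact smul_right_injective _ (by cases a <;> simp [sgn]) this
      have hx := hcay x
      rw [hc] at hx
      have hy := hcay y
      have hz : (cay y + 1) * ((x : (SpMat F m)) - y) = 0 := by
        have := congrArg₂ (· - ·) hx hy
        simp only [mul_add, mul_one] at this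
        rw [mul_sub, add_mul, add_mul, one_mul, one_mul]
        calc cay y * (x : (SpMat F m)) + x - (cay y * y + y)
            = (cay y + cay y * x - (cay y + cay y * y)) - ((1 - (x : (SpMat F m))) - (1 - (y : (SpMat F m)))) := by
              abel
          _ = 0 := by rw [this, sub_self]
      have hu : IsUnit (cay y + 1) := by
        refine isUnit_of_const (c := 2) ?_ h2
        rw [show cay y + 1 - (2 : F) • 1 = cay y - (1 : F) • 1 by rw [two_smul, one_smul]; abel]
        exact hcc y
      rw [Subtype.ext (sub_eq_zero.1 (hu.mul_right_eq_zero.1 hz))]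
    · rintro ⟨A, hA, hAU⟩
      obtain ⟨c, hc⟩ := exists_const hm h hA
      have hc2 : c * c = 1 := by
        have h1 := const_mul h (hA.adj h) hA (const_adj hc) hc
        rw [hAU] at h1
        exact const_unique hm h Com.one h1 (by simp)
      obtain ⟨b, hb⟩ : ∃ b, sgn b = c := by
        rcases mul_self_eq_one_iff.1 hc2 with rfl | rfl
        · exact ⟨true, rfl⟩
        · exact ⟨false, rfl⟩
      let A' := c • A
      have hA' : Com u A' := hA.smul c
      have hA'U : adj A' * A' = 1 := by
        simp only [A', adj_smul, smul_mul_assoc, mul_smul_comm, smul_smul, hc2, one_smul, hAU]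
      have hA'c : IsNilpotent (A' - (1 : F) • 1) := by
        simp only [A', ← hc2, ← smul_smul, ← smul_sub]
        exact hc.smul c
      have hu : IsUnit (1 + A') := by
        refine isUnit_of_const (c := 2) ?_ h2
        rw [show 1 + A' - (2 : F) • 1 = A' - (1 : F) • 1 by rw [two_smul, one_smul]; abel]
        exact hA'c
      have hu' : IsUnit (1 + adj A') := by
        refine isUnit_of_const (c := 2) ?_ h2
        rw [show 1 + adj A' - (2 : F) • 1 = adj A' - (1 : F) • 1 by
          rw [two_smul, one_smul]; abel]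
        exact const_adj hA'c
      let x := (1 + A')⁻¹ * (1 - A')
      have hd := (Matrix.isUnit_iff_isUnit_det _).1 hu
      have hx1 : (1 + A') * x = 1 - A' := by
        rw [← mul_assoc, Matrix.mul_nonsing_inv _ hd, one_mul]
      have hxC : Com u x := ((Com.one.add hA').inv hu).mul (Com.one.sub hA')
      have hx2 : adj x * (1 + adj A') = 1 - adj A' := by
        have := congrArg adj hx1
        rwa [adj_mul, adj_add, adj_one, adj_sub, adj_one] at this
      have hxa : adj x = (-1 : F) • x := by
        rw [neg_one_smul, eq_neg_iff_add_eq_zero]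
        refine hu'.mul_left_eq_zero.1 (hu.mul_left_eq_zero.1 ?_)
        rw [add_mul, hx2, (Com.comm h hxC (Com.one.add (hA'.adj h))).eq, add_mul,
          mul_assoc (1 + adj A'), (Com.comm h hxC (Com.one.add hA')).eq, hx1]
        simp only [mul_add, add_mul, sub_mul, mul_sub, mul_one, one_mul, hA'U]
        abel
      refine ⟨(b, ⟨x, hxC, hxa⟩), Subtype.ext ?_⟩
      show sgn b • cay ⟨x, hxC, hxa⟩ = A
      have hX : cay ⟨x, hxC, hxa⟩ = A' := by
        refine (hinv ⟨x, hxC, hxa⟩).mul_left_injective ?_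
        show cay ⟨x, hxC, hxa⟩ * (1 + x) = A' * (1 + x)
        rw [hcay]
        show 1 - x = A' * (1 + x)
        have := hx1
        rw [add_mul, one_mul] at this
        rw [mul_add, mul_one]
        calc 1 - x = 1 - (x + A' * x) + A' * x := by abel
          _ = A' + A' * x := by rw [this]; abel
      rw [hX, hb, smul_smul, hc2, one_smul]
  rw [← Nat.card_eq_of_bijective e hbij, Nat.card_prod,
    Module.natCard_eq_pow_finrank (K := F) (V := fixSub u (-1 : F)),
    (finrank_fixSub hm h h2).1, Nat.card_eq_fintype_card, Nat.card_eq_fintype_card,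
    Fintype.card_bool]

include hm in
/-- A fixed element whose scalar part is a non-zero square is a norm. -/
lemma exists_norm [Finite F] (h : IsRegU u) (h2 : (2 : F) ≠ 0) {s : (SpMat F m)} (hs : Com u s)
    (hsa : adj s = s) {a : F} (ha : a ≠ 0) (hc : IsNilpotent (s - (a * a) • 1)) :
    ∃ t : (SpMat F m), Com u t ∧ IsUnit t ∧ adj t * t = s := by
  let X := {t : (SpMat F m) // Com u t ∧ adj t = t ∧ IsNilpotent (t - (1 : F) • 1)}
  let sq : X → X := fun t => ⟨t.1 * t.1, t.2.1.mul t.2.1, by rw [adj_mul, t.2.2.1], by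
    simpa using const_mul h t.2.1 t.2.1 t.2.2.2 t.2.2.2⟩
  haveI : Finite X := Subtype.finite
  have hinj : Function.Injective sq := by
    intro t t' htt
    have h1 : t.1 * t.1 = t'.1 * t'.1 := congrArg Subtype.val htt
    have hu : IsUnit (t.1 + t'.1) := by
      refine isUnit_of_const (c := 2) ?_ h2
      rw [show t.1 + t'.1 - (2 : F) • (1 : SpMat F m) =
          (t.1 - (1 : F) • 1) + (t'.1 - (1 : F) • 1) by
        rw [show (2 : F) = 1 + 1 by norm_num, add_smul]; abel]
      exact (Com.comm h (t.2.1.sub (Com.one.smul _)) (t'.2.1.sub (Com.one.smul _))).isNilpotent_add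
        t.2.2.2 t'.2.2.2
    refine Subtype.ext (sub_eq_zero.1 (hu.mul_right_eq_zero.1 ?_))
    rw [← (Com.comm h t.2.1 t'.2.1).mul_self_sub_mul_self_eq, h1, sub_self]
  have ha2 : a * a ≠ 0 := mul_ne_zero ha ha
  obtain ⟨t, ht⟩ := (Finite.injective_iff_surjective.1 hinj)
    ⟨(a * a)⁻¹ • s, hs.smul _, by rw [adj_smul, hsa], by
      have := hc.smul (a * a)⁻¹
      rwa [smul_sub, smul_smul, inv_mul_cancel₀ ha2] at this⟩
  have ht' : t.1 * t.1 = (a * a)⁻¹ • s := congrArg Subtype.val ht
  refine ⟨a • t.1, t.2.1.smul _, isUnit_of_const (c := a) ?_ ha, ?_⟩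
  · have := t.2.2.2.smul a
    rwa [smul_sub, smul_smul, mul_one] at this
  · rw [adj_smul, t.2.2.1, smul_mul_assoc, mul_smul_comm, smul_smul, ht', smul_smul,
      mul_inv_cancel₀ ha2, one_smul]

end CfsgLib.RegNilp
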